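import Groth.Prelude.Def_W4bk4boschfrg79
import Mathlib.RingTheory.AdicCompletion.Completeness
import Mathlib.RingTheory.AdicCompletion.RingHom

/-!
# Universal property of completed chart algebras of a blowing-up
-/

universe u

namespace Groth.L05.Chart

open AdicRing

theorem existsUnique_completion_lift {R C B : Type u} [CommRing R] [CommRing C] [Algebra R C]
    [CommRing B] [Algebra R B] {J : Ideal C} (hJ : J.FG) (L : Ideal B) [IsAdicComplete L B]
    (ψ : C →ₐ[R] B) (hψ : J.map ψ ≤ L) :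
    ∃! Ψ : AdicCompletion J C →ₐ[R] B,
      ∀ c : C, Ψ (algebraMap C (AdicCompletion J C) c) = ψ c := by
  have hn : ∀ n, J ^ n ≤ (L ^ n).comap ψ := fun n => by
    rw [← Ideal.map_le_iff_le_comap, Ideal.map_pow]
    exact pow_le_pow_left' hψ n
  let F : ∀ n, AdicCompletion J C →ₐ[R] B ⧸ L ^ n := fun n =>
    (Ideal.quotientMapₐ (L ^ n) ψ (hn n)).comp ((AdicCompletion.evalₐ J n).restrictScalars R)
  have hF : ∀ {m n : ℕ} (hle : m ≤ n),
      (Ideal.Quotient.factorₐ R (Ideal.pow_le_pow_right hle)).comp (F n) = F m := by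
    intro m n hle
    ext x
    obtain ⟨a, rfl⟩ := AdicCompletion.mk_surjective J C x
    simp only [F, AlgHom.comp_apply, AlgHom.restrictScalars_apply, AdicCompletion.evalₐ_mk]
    simp only [Ideal.quotient_map_mkₐ, Ideal.Quotient.mkₐ_eq_mk, Ideal.Quotient.factorₐ_apply_mk]
    rw [Ideal.Quotient.eq, ← map_sub, ← Ideal.mem_comap]
    refine hn m ?_
    have h1 := a.property hle
    rw [SModEq.sub_mem, smul_eq_mul, Ideal.mul_top] at h1
    simpa using (J ^ m).neg_mem h1
  refine ⟨IsAdicComplete.liftAlgHom L F hF, fun c => ?_, fun G hG => ?_⟩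
  · show IsAdicComplete.liftAlgHom L F hF (algebraMap C (AdicCompletion J C) c) = ψ c
    refine sub_eq_zero.mp (IsHausdorff.haus (inferInstance : IsHausdorff L B) _ fun n => ?_)
    rw [SModEq.zero, smul_eq_mul, Ideal.mul_top, ← Ideal.Quotient.eq, IsAdicComplete.mk_liftAlgHom]
    simp [F, AdicCompletion.algebraMap_apply, AdicCompletion.evalₐ_of, Ideal.quotient_map_mkₐ]
  · refine IsAdicComplete.algHom_ext L fun n => AlgHom.ext fun x => ?_
    obtain ⟨y, hy⟩ := Ideal.Quotient.mk_surjective (AdicCompletion.evalₐ J n x)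
    have hker : x - algebraMap C (AdicCompletion J C) y ∈
        (J ^ n).map (algebraMap C (AdicCompletion J C)) := by
      have h1 : x - algebraMap C (AdicCompletion J C) y ∈
          (J ^ n • ⊤ : Submodule C (AdicCompletion J C)) := by
        rw [AdicCompletion.pow_smul_top_eq_ker_eval hJ, LinearMap.mem_ker]
        rw [← AdicCompletion.factor_evalₐ_eq_eval J _ (by simp), map_sub, AlgHom.commutes,
          show algebraMap C (C ⧸ J ^ n) y = Ideal.Quotient.mk _ y from rfl, hy, sub_self, map_zero]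
      rwa [Ideal.smul_top_eq_map, Submodule.restrictScalars_mem] at h1
    have hG' : ((J ^ n).map (algebraMap C (AdicCompletion J C))).map G ≤ L ^ n := by
      rw [Ideal.map_le_iff_le_comap, Ideal.map_le_iff_le_comap]
      intro c hc
      rw [Ideal.mem_comap, Ideal.mem_comap, hG]
      exact hn n hc
    have h2 : G x - ψ y ∈ L ^ n := by
      rw [← hG y, ← map_sub]; exact hG' (Ideal.mem_map_of_mem G hker)
    simp only [AlgHom.comp_apply, Ideal.Quotient.mkₐ_eq_mk, IsAdicComplete.mk_liftAlgHom]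
    rw [Ideal.Quotient.eq.mpr h2]
    simp [F, ← hy, Ideal.quotient_map_mkₐ]

theorem fg_of_isBase {R : Type u} [CommRing R] {I : Ideal R} (hR : IsBase R I) : I.FG := by
  rcases hR.2 with ⟨h, -⟩ | ⟨-, -, -, t, -, rfl⟩
  · exact IsNoetherian.noetherian I
  · exact Submodule.fg_span_singleton t

theorem existsUnique_chartAdm_lift {R A B : Type u} [CommRing R] {I : Ideal R} (hI : I.FG)
    [CommRing A] [Algebra R A] [CommRing B] [Algebra R B]
    [IsAdicComplete (I.map (algebraMap R B)) B] {ι : Type} (f : ι → A) (i : ι)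
    (φ : A →ₐ[R] B) (hnzd : φ (f i) ∈ nonZeroDivisors B)
    (hgen : (Ideal.span (Set.range f)).map φ = Ideal.span {φ (f i)}) :
    ∃! ψ : chartAdm I f i →ₐ[R] B,
      ψ.comp (IsScalarTower.toAlgHom R A (chartAdm I f i)) = φ := by
  have hb : ∀ j : {j : ι // j ≠ i}, ∃ b, b * φ (f i) = φ (f j.1) := fun j => by
    rw [← Ideal.mem_span_singleton', ← hgen]
    exact Ideal.mem_map_of_mem φ (Ideal.subset_span ⟨j.1, rfl⟩)
  choose b hb using hb
  let q : MvPolynomial {j : ι // j ≠ i} A →ₐ[R] B := MvPolynomial.aevalTower φ b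
  let ψ₀ : chartAlg f i →ₐ[R] B := Ideal.Quotient.liftₐ _ q (by
    intro a ha
    refine (Ideal.span_le (I := RingHom.ker q.toRingHom)).mpr ?_ ha
    rintro _ ⟨j, rfl⟩
    simp [RingHom.mem_ker, q, ← hb j, mul_comm])
  have hψ₀C : ∀ a, ψ₀ (algebraMap A (chartAlg f i) a) = φ a := fun a => by
    show ψ₀ (Ideal.Quotient.mk _ (MvPolynomial.C a)) = φ a
    simp [ψ₀, q]
  let T := chartCompl I f i
  obtain ⟨Ψ, hΨ, hΨu⟩ := existsUnique_completion_lift (R := R) (hI.map (algebraMap R (chartAlg f i)))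
    (I.map (algebraMap R B)) ψ₀ (by rw [Ideal.map_le_iff_le_comap, Ideal.map_le_iff_le_comap]; intro r hr; rw [Ideal.mem_comap, Ideal.mem_comap, AlgHom.commutes]; exact Ideal.mem_map_of_mem _ hr)
  have hΨA : ∀ a, Ψ (algebraMap A T a) = φ a := fun a => by
    rw [IsScalarTower.algebraMap_apply A (chartAlg f i) T a]
    exact (hΨ _).trans (hψ₀C a)
  let N : Ideal T := ⨆ n : ℕ, Submodule.torsionBy T T (algebraMap A T (f i) ^ n)
  have hN : ∀ x ∈ N, Ψ x = 0 := by
    intro x hx
    refine (iSup_le fun n => ?_ : N ≤ RingHom.ker Ψ.toRingHom) hx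
    intro y hy
    rw [Submodule.mem_torsionBy_iff, smul_eq_mul] at hy
    have h1 := congrArg Ψ hy
    rw [map_mul, map_pow, hΨA, map_zero] at h1
    exact (pow_mem hnzd n).1 _ h1
  refine ⟨Ideal.Quotient.liftₐ N Ψ hN, ?_, fun G hG => ?_⟩
  · ext a
    exact hΨA a
  · let G' : T →ₐ[R] B := G.comp (Ideal.Quotient.mkₐ R N)
    have hGA : ∀ a, G' (algebraMap A T a) = φ a := fun a => DFunLike.congr_fun hG a
    have h0 : G'.comp (IsScalarTower.toAlgHom R (chartAlg f i) T) = ψ₀ := by
      refine Ideal.Quotient.algHom_ext (R₁ := R) ?_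
      refine AlgHom.ext fun p => ?_
      induction p using MvPolynomial.induction_on with
      | C a =>
        show G' (algebraMap (chartAlg f i) T (algebraMap A (chartAlg f i) a)) =
          ψ₀ (algebraMap A (chartAlg f i) a)
        rw [← IsScalarTower.algebraMap_apply A (chartAlg f i) T a, hGA, hψ₀C]
      | add p q hp hq => simp only [map_add, hp, hq]
      | mul_X p j hp =>
        have hX : ∀ (G₁ : chartAlg f i →ₐ[R] B), (∀ a, G₁ (algebraMap A (chartAlg f i) a) = φ a) →
            φ (f i) * G₁ (Ideal.Quotient.mk _ (MvPolynomial.X j)) = φ (f j.1) := fun G₁ hG₁ => by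
          rw [← hG₁, ← hG₁, ← map_mul]
          refine congrArg G₁ ?_
          show Ideal.Quotient.mk _ (MvPolynomial.C (f i) * MvPolynomial.X j) =
            Ideal.Quotient.mk _ (MvPolynomial.C (f j.1))
          exact Ideal.Quotient.eq.mpr (Ideal.subset_span ⟨j, rfl⟩)
        rw [map_mul, map_mul, hp]
        congr 1
        have h1 := hX (G'.comp (IsScalarTower.toAlgHom R (chartAlg f i) T)) fun a => by
          show G' (algebraMap (chartAlg f i) T (algebraMap A (chartAlg f i) a)) = φ a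
          rw [← IsScalarTower.algebraMap_apply A (chartAlg f i) T a, hGA]
        exact (mul_cancel_left_mem_nonZeroDivisors hnzd).mp (h1.trans (hX ψ₀ hψ₀C).symm)
    have h2 : G' = Ψ := hΨu G' fun c => DFunLike.congr_fun h0 c
    refine AlgHom.ext fun x => ?_
    obtain ⟨y, rfl⟩ := Ideal.Quotient.mk_surjective x
    exact (DFunLike.congr_fun h2 y : G' y = Ψ y)

end Groth.L05.Chart
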