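import Groth.Agent.L05.Point.Crit
import Groth.Agent.L20.Weight.Lifts
import Groth.Agent.L23.QFDescent
import Mathlib.RingTheory.Unramified.LocalStructure
import Mathlib.AlgebraicGeometry.Morphisms.ClosedImmersion
import Mathlib.AlgebraicGeometry.Morphisms.FlatMono
import Mathlib.AlgebraicGeometry.Morphisms.Proper

/-!
# Étale local splitting of unramified morphisms at finitely many points
-/

set_option autoImplicit false
set_option linter.style.haveILetI false
set_option backward.isDefEq.respectTransparency false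
set_option backward.isDefEq.respectTransparency.types false

universe u

open CategoryTheory CategoryTheory.Limits AlgebraicGeometry TopologicalSpace
open Groth.L20.Weight (pt Lifts)

noncomputable section

namespace Groth.L05.Chart

/-- An unramified morphism is, étale locally on the base, a closed immersion. -/
theorem local_closed {X Y : Scheme.{u}} (f : X ⟶ Y) [LocallyOfFiniteType f] [FormallyUnramified f]
    (x : X) : ∃ (Y' : Scheme.{u}) (g : Y' ⟶ Y) (U : (pullback f g).Opens), Etale g ∧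
      x ∈ (pullback.fst f g).base '' (U : Set ↥(pullback f g)) ∧
      IsClosedImmersion (U.ι ≫ pullback.snd f g) := by
  obtain ⟨A, B, j, ι, φ, _, _, q, e, hq, -⟩ :=
    Groth.L05.Point.exists_chart f (O := ⊤) (x := x) trivial
  haveI : FormallyUnramified j := inferInstance
  haveI : FormallyUnramified (Spec.map φ ≫ ι) := by rw [← e]; exact MorphismProperty.comp_mem _ _ _ ‹_› ‹_›
  haveI : LocallyOfFiniteType (Spec.map φ ≫ ι) := by rw [← e]; infer_instance
  have hfu := FormallyUnramified.of_comp (Spec.map φ) ι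
  have hft := locallyOfFiniteType_of_comp (Spec.map φ) ι
  rw [HasRingHomProperty.Spec_iff (P := @FormallyUnramified)] at hfu
  rw [HasRingHomProperty.Spec_iff (P := @LocallyOfFiniteType)] at hft
  algebraize [φ.hom]
  obtain ⟨f0, hf0, Q, ψ, hψ⟩ :=
    Algebra.IsUnramifiedAt.exists_hasStandardEtaleSurjectionOn (R := A) q.asIdeal
  let g : Spec (.of Q.Ring) ⟶ Y := Spec.map (CommRingCat.ofHom (algebraMap A Q.Ring)) ≫ ι
  haveI : Etale (Spec.map (CommRingCat.ofHom (algebraMap A Q.Ring))) :=
    (HasRingHomProperty.Spec_iff (P := @Etale)).mpr (RingHom.etale_algebraMap.mpr inferInstance)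
  let l := Spec.map (CommRingCat.ofHom (algebraMap B (Localization.Away f0)))
  haveI : IsOpenImmersion l := IsOpenImmersion.of_isLocalization f0
  let i : Spec (.of (Localization.Away f0)) ⟶ Spec (.of Q.Ring) := Spec.map (CommRingCat.ofHom ψ.toRingHom)
  haveI : IsClosedImmersion i := IsClosedImmersion.spec_of_surjective _ hψ
  have w : (l ≫ j) ≫ f = i ≫ g := by
    simp only [l, i, g, Category.assoc, e, ← Spec.map_comp_assoc]
    congr 2
    ext a
    exact ((ψ.commutes a).trans (IsScalarTower.algebraMap_apply A B (Localization.Away f0) a)).symm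
  let Γ : Spec (.of (Localization.Away f0)) ⟶ pullback f g := pullback.lift (l ≫ j) i w
  have h1 : Γ ≫ pullback.fst f g = l ≫ j := pullback.lift_fst _ _ _
  haveI : Etale g := inferInstance
  haveI : Etale (Γ ≫ pullback.fst f g) := by rw [h1]; infer_instance
  haveI : Etale Γ := Etale.of_comp Γ (pullback.fst f g)
  haveI : Mono Γ := @mono_of_mono _ _ _ _ _ Γ (pullback.fst f g) (by rw [h1]; infer_instance)
  haveI : IsOpenImmersion Γ := IsOpenImmersion.of_flat_of_mono Γ
  refine ⟨_, g, Γ.opensRange, inferInstance, ?_, ?_⟩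
  · obtain ⟨p, hp⟩ : q ∈ Set.range l := by
      rw [show Set.range l = (PrimeSpectrum.basicOpen f0 : Set (PrimeSpectrum B)) from
        PrimeSpectrum.localization_away_comap_range _ f0]
      exact hf0
    refine ⟨Γ p, ⟨p, rfl⟩, ?_⟩
    show pullback.fst f g (Γ p) = x
    rw [← Scheme.Hom.comp_apply, h1, Scheme.Hom.comp_apply, hp]
    exact hq
  · have e' : Γ.opensRange.ι = Γ.isoOpensRange.inv ≫ Γ := (Scheme.Hom.isoOpensRange_inv_comp Γ).symm
    rw [e', Category.assoc, pullback.lift_snd]
    infer_instance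


variable {X S : Scheme.{u}} (f : X ⟶ S)

/-- The map induced on fibre products by a morphism of bases is a base change. -/
theorem isPullback_map {U U' : Scheme.{u}} (g : U ⟶ S) (h : U' ⟶ U) :
    IsPullback (pullback.map f (h ≫ g) f g (𝟙 X) h (𝟙 S) (by simp) (by simp))
      (pullback.snd f (h ≫ g)) (pullback.snd f g) h := by
  refine IsPullback.of_right ?_ (pullback.lift_snd _ _ _) (IsPullback.of_hasPullback f g).flip.flip
  rw [pullback.lift_fst, Category.comp_id]
  exact IsPullback.of_hasPullback f (h ≫ g)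

variable {K : Type u} [Field K]

/-- A geometric point lands in an open part of the fibre product with the property `P` over the base. -/
def Good (P : MorphismProperty Scheme.{u}) {U : Scheme.{u}} (g : U ⟶ S)
    (a : Spec (CommRingCat.of K) ⟶ U) (ξ : Spec (CommRingCat.of K) ⟶ X) : Prop :=
  ∃ (w : ξ ≫ f = a ≫ g) (V : (pullback f g).Opens),
    P (V.ι ≫ pullback.snd f g) ∧ pt (pullback.lift ξ a w) ∈ V

variable {f}
variable {P : MorphismProperty Scheme.{u}} [P.IsStableUnderBaseChange]

theorem Good.mono {U U' : Scheme.{u}} {g : U ⟶ S} {a : Spec (CommRingCat.of K) ⟶ U}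
    {ξ : Spec (CommRingCat.of K) ⟶ X} (H : Good f P g a ξ) (h : U' ⟶ U)
    (a' : Spec (CommRingCat.of K) ⟶ U') (ha : a' ≫ h = a) : Good f P (h ≫ g) a' ξ := by
  obtain ⟨w, V, hV, hmem⟩ := H
  let m := pullback.map f (h ≫ g) f g (𝟙 X) h (𝟙 S) (by simp) (by simp)
  have w' : ξ ≫ f = a' ≫ h ≫ g := by rw [w, ← ha, Category.assoc]
  refine ⟨w', m ⁻¹ᵁ V,
    MorphismProperty.of_isPullback ((isPullback_morphismRestrict m V).paste_vert (isPullback_map f g h)) hV, ?_⟩
  show m (pt (pullback.lift ξ a' w')) ∈ V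
  rw [← Groth.L20.Weight.pt_comp]
  have e : pullback.lift ξ a' w' ≫ m = pullback.lift ξ a w := by
    apply pullback.hom_ext <;>
      simp only [m, pullback.map, Category.assoc, pullback.lift_fst, pullback.lift_snd,
        pullback.lift_fst_assoc, pullback.lift_snd_assoc, Category.comp_id, ha]
  rw [e]
  exact hmem

/-- Finitely many geometric points can be treated simultaneously. -/
theorem exists_good_finset (σ : Spec (CommRingCat.of K) ⟶ S) (T : Finset (Spec (CommRingCat.of K) ⟶ X))
    (hloc : ∀ ξ ∈ T, ∃ (U : Scheme.{u}) (g : U ⟶ S) (a : Spec (CommRingCat.of K) ⟶ U),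
      Etale g ∧ a ≫ g = σ ∧ Good f P g a ξ) :
    ∃ (U : Scheme.{u}) (g : U ⟶ S) (a : Spec (CommRingCat.of K) ⟶ U),
      Etale g ∧ a ≫ g = σ ∧ ∀ ξ ∈ T, Good f P g a ξ := by
  classical
  induction T using Finset.induction with
  | empty => exact ⟨S, 𝟙 S, σ, inferInstance, Category.comp_id _, by simp⟩
  | insert ξ T _ ih =>
    obtain ⟨U₁, g₁, a₁, h₁, e₁, G₁⟩ := hloc ξ (Finset.mem_insert_self ξ T)
    obtain ⟨U₂, g₂, a₂, h₂, e₂, G₂⟩ := ih fun η hη => hloc η (Finset.mem_insert_of_mem hη)
    let a : Spec (CommRingCat.of K) ⟶ pullback g₁ g₂ := pullback.lift a₁ a₂ (e₁.trans e₂.symm)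
    refine ⟨_, pullback.fst g₁ g₂ ≫ g₁, a, inferInstance, ?_, fun η hη => ?_⟩
    · rw [pullback.lift_fst_assoc, e₁]
    · rcases Finset.mem_insert.mp hη with rfl | hη
      · exact G₁.mono _ a (pullback.lift_fst _ _ _)
      · rw [pullback.condition]
        exact (G₂ η hη).mono _ a (pullback.lift_snd _ _ _)

/-- A property of a morphism out of an open immersion's range. -/
theorem of_opensRange {P : MorphismProperty Scheme.{u}} [P.RespectsIso] {A B C : Scheme.{u}} (k : A ⟶ B)
    [IsOpenImmersion k] (q : B ⟶ C) (h : P (k ≫ q)) : P (k.opensRange.ι ≫ q) := by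
  have e' : k.opensRange.ι = k.isoOpensRange.inv ≫ k := (Scheme.Hom.isoOpensRange_inv_comp k).symm
  rw [e', Category.assoc, P.cancel_left_of_respectsIso]
  exact h

variable [IsAlgClosed K]

/-- One geometric point: closed immersion, and isomorphism in the étale case. -/
theorem exists_good (σ : Spec (CommRingCat.of K) ⟶ S) (ξ : Spec (CommRingCat.of K) ⟶ X) (hξ : ξ ≫ f = σ)
    (W : X.Opens) (hW : pt ξ ∈ W) [LocallyOfFiniteType (W.ι ≫ f)] [FormallyUnramified (W.ι ≫ f)] :
    (∃ (U : Scheme.{u}) (g : U ⟶ S) (a : Spec (CommRingCat.of K) ⟶ U),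
      Etale g ∧ a ≫ g = σ ∧ Good f @IsClosedImmersion g a ξ) ∧
    (Etale (W.ι ≫ f) → ∃ (U : Scheme.{u}) (g : U ⟶ S) (a : Spec (CommRingCat.of K) ⟶ U),
      Etale g ∧ a ≫ g = σ ∧ Good f (MorphismProperty.isomorphisms Scheme.{u}) g a ξ) := by
  have hr : Set.range ξ ⊆ Set.range W.ι := by
    rw [Scheme.Opens.range_ι, Groth.L20.Weight.range_eq_pt]
    simpa using hW
  let ξ' := IsOpenImmersion.lift W.ι ξ hr
  have hξ' : ξ' ≫ W.ι = ξ := IsOpenImmersion.lift_fac _ _ _
  obtain ⟨U, g, V', hg, ⟨v, hv, hvx⟩, hV'⟩ := local_closed (W.ι ≫ f) (pt ξ')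
  let p := V'.ι ≫ pullback.fst (W.ι ≫ f) g
  haveI : Etale p := inferInstance
  haveI : LocallyQuasiFinite p := Groth.L23.locallyQuasiFinite_of_unramified p
  obtain ⟨⟨η, hη⟩, -⟩ := Groth.L20.Weight.exists_lift_of_apply_eq p ξ' (u := ⟨v, hv⟩) (by
    rw [Scheme.Hom.comp_apply]; exact hvx)
  let m := pullback.map (W.ι ≫ f) g f g W.ι (𝟙 U) (𝟙 S) (by simp) (by simp)
  let k := V'.ι ≫ m
  haveI : IsOpenImmersion k := inferInstance
  let a := η ≫ V'.ι ≫ pullback.snd (W.ι ≫ f) g
  have ha : a ≫ g = σ := by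
    simp only [a, Category.assoc, ← pullback.condition]
    rw [← hξ, ← hξ', ← hη]
    simp only [p, Category.assoc]
  have w : ξ ≫ f = a ≫ g := by rw [ha, hξ]
  have hl : pullback.lift ξ a w = η ≫ k := by
    apply pullback.hom_ext <;>
      simp only [k, m, pullback.map, Category.assoc, pullback.lift_fst, pullback.lift_snd, Category.comp_id]
    · rw [← hξ', ← hη]; simp only [p, Category.assoc]
    · rfl
  have hk : k ≫ pullback.snd f g = V'.ι ≫ pullback.snd (W.ι ≫ f) g := by
    simp only [k, m, pullback.map, Category.assoc, pullback.lift_snd, Category.comp_id]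
  refine ⟨⟨U, g, a, hg, ha, w, k.opensRange, ?_, ?_⟩, fun he => ?_⟩
  · exact of_opensRange (P := @IsClosedImmersion) k _ (by rw [hk]; exact hV')
  · exact ⟨pt η, by rw [← Groth.L20.Weight.pt_comp, ← hl]⟩
  · haveI := he
    let j := k ≫ pullback.snd f g
    haveI : Etale j := by rw [show j = _ from hk]; infer_instance
    haveI : IsClosedImmersion j := by rw [show j = _ from hk]; exact hV'
    haveI : IsOpenImmersion j := IsOpenImmersion.of_flat_of_mono j
    let e : V'.toScheme ⟶ pullback f (j ≫ g) := pullback.lift (k ≫ pullback.fst f g) (𝟙 _) (by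
      simp only [j, Category.id_comp, Category.assoc, pullback.condition])
    let m' := pullback.map f (j ≫ g) f g (𝟙 X) j (𝟙 S) (by simp) (by simp)
    haveI : IsOpenImmersion m' := MorphismProperty.of_isPullback (isPullback_map f g j).flip ‹IsOpenImmersion j›
    have hem : e ≫ m' = k := by
      apply pullback.hom_ext <;>
        simp only [e, m', pullback.map, Category.assoc, pullback.lift_fst, pullback.lift_snd,
          pullback.lift_fst_assoc, pullback.lift_snd_assoc, Category.comp_id, Category.id_comp, j]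
    haveI : IsOpenImmersion (e ≫ m') := by rw [hem]; infer_instance
    haveI : IsOpenImmersion e := IsOpenImmersion.of_comp e m'
    have hjg : η ≫ j ≫ g = σ := by
      rw [← Category.assoc, show η ≫ j = a from by rw [show j = _ from hk]]
      exact ha
    refine ⟨_, j ≫ g, η, inferInstance, hjg, hξ.trans hjg.symm, e.opensRange, ?_, ?_⟩
    · refine of_opensRange (P := MorphismProperty.isomorphisms Scheme.{u}) e _ ?_
      rw [MorphismProperty.isomorphisms.iff, pullback.lift_snd]
      infer_instance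
    · refine ⟨pt η, ?_⟩
      rw [← Groth.L20.Weight.pt_comp]
      congr 1
      apply pullback.hom_ext
      · rw [pullback.lift_fst, Category.assoc, pullback.lift_fst, ← Category.assoc, ← hl,
          pullback.lift_fst]
      · rw [pullback.lift_snd, Category.assoc, pullback.lift_snd, Category.comp_id]

omit [P.IsStableUnderBaseChange] [IsAlgClosed K] in
/-- A part of a fibre product embedded in the base contains one point over each point of the base. -/
theorem eq_of_mem {U : Scheme.{u}} (g : U ⟶ S) (V : (pullback f g).Opens)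
    [Mono (V.ι ≫ pullback.snd f g)] [LocallyOfFiniteType (V.ι ≫ pullback.snd f g)] {w w' : ↑(pullback f g)}
    (hw : w ∈ V) (hw' : w' ∈ V) (h : pullback.snd f g w = pullback.snd f g w') : w = w' := by
  have := (V.ι ≫ pullback.snd f g).injective (a₁ := ⟨w, hw⟩) (a₂ := ⟨w', hw'⟩) (by
    rw [Scheme.Hom.comp_apply, Scheme.Hom.comp_apply]; exact h)
  exact congrArg Subtype.val this

variable (f)

/-- All the points over a chosen point of an étale neighbourhood and over the given points are
covered by opens with the property. -/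
theorem exists_splitting (P : MorphismProperty Scheme.{u}) [P.IsStableUnderBaseChange] (s : S)
    {ι : Type*} [Finite ι] (x : ι → X) (hs : ∀ i, f (x i) = s)
    (hW : ∀ i, ∃ W : X.Opens, x i ∈ W ∧ LocallyQuasiFinite (W.ι ≫ f))
    (hloc : ∀ {K : Type u} [Field K] [IsAlgClosed K] (σ : Spec (CommRingCat.of K) ⟶ S)
      (ξ : Spec (CommRingCat.of K) ⟶ X), ξ ≫ f = σ → pt ξ ∈ Set.range x →
      ∃ (U : Scheme.{u}) (g : U ⟶ S) (a : Spec (CommRingCat.of K) ⟶ U),
        Etale g ∧ a ≫ g = σ ∧ Good f P g a ξ) :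
    ∃ (U : Scheme.{u}) (g : U ⟶ S) (u : U), Etale g ∧ g u = s ∧
      {w : ↑(pullback f g) | pullback.snd f g w = u ∧ pullback.fst f g w ∈ Set.range x}.Finite ∧
      ∀ w : ↑(pullback f g), pullback.snd f g w = u → pullback.fst f g w ∈ Set.range x →
        ∃ V : (pullback f g).Opens, P (V.ι ≫ pullback.snd f g) ∧ w ∈ V := by
  classical
  let K := AlgebraicClosure (S.residueField s)
  let σ : Spec (CommRingCat.of K) ⟶ S :=
    Spec.map (CommRingCat.ofHom (algebraMap (S.residueField s) K)) ≫ S.fromSpecResidueField s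
  have hσ : pt σ = s := Groth.L20.Weight.pt_fromSpecResidueField _
  choose W hxW hWqf using hW
  haveI := fun i => hWqf i
  let T : Set (Spec (CommRingCat.of K) ⟶ X) := {ξ | ξ ≫ f = σ ∧ pt ξ ∈ Set.range x}
  have hT : T.Finite := by
    haveI : ∀ i, Finite {φ : Lifts ((W i).ι ≫ f) σ // pt φ.1 = ⟨x i, hxW i⟩} := fun i =>
      (Groth.L20.Weight.card_liftsOver _ σ _ (by rw [Scheme.Hom.comp_apply, hσ]; exact hs i)).1
    refine (Set.finite_range
      (fun φ : Σ i, {φ : Lifts ((W i).ι ≫ f) σ // pt φ.1 = ⟨x i, hxW i⟩} => φ.2.1.1 ≫ (W φ.1).ι)).subset ?_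
    rintro ξ ⟨hξ, i, hi⟩
    have hr : Set.range ξ ⊆ Set.range (W i).ι := by
      rw [Scheme.Opens.range_ι, Groth.L20.Weight.range_eq_pt]
      simpa [← hi] using hxW i
    refine ⟨⟨i, ⟨IsOpenImmersion.lift _ ξ hr, ?_⟩, ?_⟩, IsOpenImmersion.lift_fac _ _ _⟩
    · rw [← Category.assoc, IsOpenImmersion.lift_fac, hξ]
    · apply (W i).ι.isOpenEmbedding.injective
      rw [← Groth.L20.Weight.pt_comp, IsOpenImmersion.lift_fac, ← hi]
      rfl
  obtain ⟨U, g, a, hg, hag, hgood⟩ := exists_good_finset (f := f) (P := P) σ hT.toFinset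
    fun ξ hξ => hloc σ ξ (hT.mem_toFinset.mp hξ).1 (hT.mem_toFinset.mp hξ).2
  have key : ∀ w : ↑(pullback f g), pullback.snd f g w = pt a → pullback.fst f g w ∈ Set.range x →
      ∃ ξ ∈ T, ∃ e : ξ ≫ f = a ≫ g, pt (pullback.lift ξ a e) = w := by
    intro w hw hwx
    obtain ⟨i, hi⟩ := hwx
    let W' := pullback.fst f g ⁻¹ᵁ W i
    have hw' : w ∈ W' := by show pullback.fst f g w ∈ W i; rw [← hi]; exact hxW i
    haveI : LocallyQuasiFinite (W'.ι ≫ pullback.snd f g) := MorphismProperty.of_isPullback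
      ((isPullback_morphismRestrict (pullback.fst f g) (W i)).paste_vert
        (IsPullback.of_hasPullback f g)) (hWqf i)
    obtain ⟨⟨η, hη⟩, hpt⟩ := Groth.L20.Weight.exists_lift_of_apply_eq
      (W'.ι ≫ pullback.snd f g) a (u := ⟨w, hw'⟩) (by rw [Scheme.Hom.comp_apply]; exact hw)
    have hpt' : pt (η ≫ W'.ι) = w := by
      rw [Groth.L20.Weight.pt_comp, hpt]; rfl
    have e : (η ≫ W'.ι ≫ pullback.fst f g) ≫ f = a ≫ g := by
      rw [← hη]; simp only [Category.assoc, pullback.condition]
    refine ⟨η ≫ W'.ι ≫ pullback.fst f g, ⟨e.trans hag, i, ?_⟩, e, ?_⟩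
    · rw [hi, ← Category.assoc, Groth.L20.Weight.pt_comp, hpt']
    · rw [← hpt']
      congr 1
      apply pullback.hom_ext
      · rw [pullback.lift_fst, Category.assoc]
      · rw [pullback.lift_snd, Category.assoc, hη]
  refine ⟨U, g, pt a, hg, by rw [← Groth.L20.Weight.pt_comp, hag, hσ], ?_, fun w hw hwx => ?_⟩
  · haveI := hT.to_subtype
    refine (Set.finite_range (fun ξ : T => if e : ξ.1 ≫ f = a ≫ g then pt (pullback.lift ξ.1 a e)
      else pt (pullback.lift ξ.1 a (ξ.2.1.trans hag.symm)))).subset ?_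
    rintro w ⟨hw, hwx⟩
    obtain ⟨ξ, hξ, e, rfl⟩ := key w hw hwx
    exact ⟨⟨ξ, hξ⟩, dif_pos e⟩
  · obtain ⟨ξ, hξ, e, rfl⟩ := key w hw hwx
    obtain ⟨_, V, hV, hmem⟩ := hgood ξ (hT.mem_toFinset.mpr hξ)
    exact ⟨V, hV, hmem⟩

end Groth.L05.Chart
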