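import Groth.Agent.L05.Chart.EtaleSplittingData
import Mathlib.RingTheory.Idempotents
import Mathlib.RingTheory.Spectrum.Prime.Topology
import Mathlib.RingTheory.Unramified.Locus
import Mathlib.AlgebraicGeometry.Pullbacks

/-!
# Étale local product decompositions of unramified algebras
-/

set_option autoImplicit false
set_option linter.style.haveILetI false
set_option backward.isDefEq.respectTransparency false
set_option backward.isDefEq.respectTransparency.types false

universe u

open CategoryTheory CategoryTheory.Limits AlgebraicGeometry TopologicalSpace TensorProduct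
open Groth.L20.Weight (pt)

noncomputable section

namespace Groth.L05.Chart

theorem nhd_of_isUnramifiedAt (R S : Type u) [CommRing R] [CommRing S] [Algebra R S]
    [Algebra.FiniteType R S] (q : PrimeSpectrum S) [Algebra.IsUnramifiedAt R q.asIdeal] :
    ∃ W : (Spec (CommRingCat.of S)).Opens, q ∈ W ∧
      LocallyOfFiniteType (W.ι ≫ Spec.map (CommRingCat.ofHom (algebraMap R S))) ∧
      FormallyUnramified (W.ι ≫ Spec.map (CommRingCat.ofHom (algebraMap R S))) := by
  haveI : LocallyOfFiniteType (Spec.map (CommRingCat.ofHom (algebraMap R S))) :=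
    HasRingHomProperty.Spec_iff.mpr (RingHom.finiteType_algebraMap.mpr inferInstance)
  obtain ⟨f, hf, hfu⟩ := Algebra.exists_formallyUnramified_of_isUnramifiedAt (R := R) q.asIdeal
  obtain ⟨W, hW, hWu⟩ := Groth.L05.Point.nhd_of_away (P := @FormallyUnramified)
    (CommRingCat.ofHom (algebraMap R S)) (q : Spec (CommRingCat.of S)) f hf (by
      rw [show (algebraMap (CommRingCat.of S) (Localization.Away (f : CommRingCat.of S))).comp
        (CommRingCat.ofHom (algebraMap R S)).hom = algebraMap R (Localization.Away f) from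
        (IsScalarTower.algebraMap_eq R S _).symm]
      exact RingHom.formallyUnramified_algebraMap.mpr hfu)
  exact ⟨W, hW, inferInstance, hWu⟩

/-- Étale locally on the base an unramified algebra splits off quotients of the base. -/
theorem exists_affine_split (R S : Type u) [CommRing R] [CommRing S] [Algebra R S]
    [Algebra.FiniteType R S] (p : PrimeSpectrum R) {ι : Type*} [Finite ι] (x : ι → PrimeSpectrum S)
    (hp : ∀ i, PrimeSpectrum.comap (algebraMap R S) (x i) = p)
    (hx : ∀ i, Algebra.IsUnramifiedAt R (x i).asIdeal) :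
    ∃ (R' : Type u) (_ : CommRing R') (_ : Algebra R R') (_ : Algebra.Etale R R') (p' : PrimeSpectrum R')
      (n : ℕ) (e : Option (Fin n) → R' ⊗[R] S) (Q : Fin n → PrimeSpectrum (R' ⊗[R] S)),
      PrimeSpectrum.comap (algebraMap R R') p' = p ∧ CompleteOrthogonalIdempotents e ∧
      (∀ i, Function.Surjective (algebraMap R' ((R' ⊗[R] S) ⧸ Ideal.span {1 - e (some i)}))) ∧
      (∀ i, e (some i) ∉ (Q i).asIdeal ∧
        PrimeSpectrum.comap (algebraMap R' (R' ⊗[R] S)) (Q i) = p') ∧
      (∀ z, PrimeSpectrum.comap (algebraMap R' (R' ⊗[R] S)) z = p' →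
        PrimeSpectrum.comap (Algebra.TensorProduct.includeRight : S →ₐ[R] R' ⊗[R] S).toRingHom z ∈
          Set.range x → ∃ i, z = Q i) ∧
      ∀ j, ∃ i, PrimeSpectrum.comap
        (Algebra.TensorProduct.includeRight : S →ₐ[R] R' ⊗[R] S).toRingHom (Q i) = x j := by
  classical
  let f : Spec (CommRingCat.of S) ⟶ Spec (CommRingCat.of R) :=
    Spec.map (CommRingCat.ofHom (algebraMap R S))
  obtain ⟨U₀, g₀, u₀, n, hg₀, hu₀, ⟨D₀⟩⟩ :=
    exists_split_closedImmersion (f := f) (p : Spec (CommRingCat.of R))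
      (fun i => (x i : Spec (CommRingCat.of S))) hp
      (fun i => haveI := hx i; nhd_of_isUnramifiedAt R S (x i))
  obtain ⟨U, g, u, hg, hu, D, hdis, hcl⟩ := D₀.exists_disjoint le_rfl hg₀
  obtain ⟨O, hO, huO, -⟩ := exists_isAffineOpen_mem_and_subset (X := U) (x := u) (U := ⊤) trivial
  obtain ⟨φ, hφ⟩ : ∃ φ, Spec.map φ = hO.fromSpec ≫ g := Spec.map_surjective _
  let u' := hO.primeIdealOf ⟨u, huO⟩
  have hu' : hO.fromSpec u' = u := hO.fromSpec_primeIdealOf _
  have key : ∃ D' : Split f @IsClosedImmersion (Set.range fun i => (x i : Spec (CommRingCat.of S)))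
      (hO.fromSpec ≫ g) u' n, (∀ a b, a ≠ b → Disjoint (D'.V a) (D'.V b)) ∧
        ∀ a, IsClosed (D'.V a : Set ↑(pullback f (hO.fromSpec ≫ g))) := by
    obtain ⟨D', m, hV, -, -, -, -⟩ := D.pullbackOpen hO.fromSpec u' hu'
    refine ⟨D', fun a b hab => ?_, fun a => ?_⟩
    · rw [hV, hV, disjoint_iff_inf_le]
      exact fun z ⟨ha, hb⟩ => ((hdis a b hab).le_bot ⟨ha, hb⟩).elim
    · rw [hV]; exact (hcl a).preimage m.continuous
  rw [← hφ] at key
  obtain ⟨D', hdis', hcl'⟩ := key
  have het : Etale (Spec.map φ) := by rw [hφ]; infer_instance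
  let R' : Type u := Γ(U, O)
  letI : Algebra R R' := φ.hom.toAlgebra
  have hetR : Algebra.Etale R R' := HasRingHomProperty.Spec_iff.mp het
  let T : Type u := R' ⊗[R] S
  let θ : Spec (CommRingCat.of T) ≅ pullback f (Spec.map φ) :=
    (pullbackSpecIso R R' S).symm ≪≫ pullbackSymmetry _ _
  have hθs : θ.hom ≫ pullback.snd f (Spec.map φ) = Spec.map (CommRingCat.ofHom (algebraMap R' T)) := by
    simp only [θ, Iso.trans_hom, Iso.symm_hom, Category.assoc]
    erw [pullbackSymmetry_hom_comp_snd, pullbackSpecIso_inv_fst]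
    rfl
  have hθf : θ.hom ≫ pullback.fst f (Spec.map φ) = Spec.map (CommRingCat.ofHom
      (Algebra.TensorProduct.includeRight : S →ₐ[R] T).toRingHom) := by
    simp only [θ, Iso.trans_hom, Iso.symm_hom, Category.assoc]
    erw [pullbackSymmetry_hom_comp_fst, pullbackSpecIso_inv_snd]
    rfl
  have hs : ∀ z : PrimeSpectrum T,
      PrimeSpectrum.comap (algebraMap R' T) z = pullback.snd f (Spec.map φ) (θ.hom z) := fun z =>
    (show (Spec.map (CommRingCat.ofHom (algebraMap R' T))) z = _ by rw [← hθs, Scheme.Hom.comp_apply]; rfl)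
  have hf : ∀ z : PrimeSpectrum T,
      PrimeSpectrum.comap (Algebra.TensorProduct.includeRight : S →ₐ[R] T).toRingHom z =
        pullback.fst f (Spec.map φ) (θ.hom z) := fun z =>
    (show (Spec.map (CommRingCat.ofHom (Algebra.TensorProduct.includeRight : S →ₐ[R] T).toRingHom)) z = _
      by rw [← hθf, Scheme.Hom.comp_apply])
  let C : Option (Fin n) → Set (PrimeSpectrum T) := fun o => o.elim
    ((⋃ i, θ.hom ⁻¹' (D'.V i : Set ↑(pullback f (Spec.map φ))))ᶜ) fun i => θ.hom ⁻¹' (D'.V i)
  have hC : ∀ o, IsClopen (C o) := by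
    have h : ∀ i, IsClopen (C (some i)) := fun i =>
      ⟨(hcl' i).preimage θ.hom.continuous, (D'.V i).2.preimage θ.hom.continuous⟩
    rintro (_ | i)
    · exact (isClopen_iUnion_of_finite h).compl
    · exact h i
  choose e he heC using fun o => PrimeSpectrum.exists_idempotent_basicOpen_eq_of_isClopen (hC o)
  have hCd : ∀ a b, a ≠ b → ∀ z, z ∈ C a → z ∈ C b → False := by
    rintro (_ | a) (_ | b) hab z ha hb
    · exact hab rfl
    · exact ha (Set.mem_iUnion.mpr ⟨b, hb⟩)
    · exact hb (Set.mem_iUnion.mpr ⟨a, ha⟩)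
    · exact ((hdis' a b fun h => hab (congrArg some h)).le_bot ⟨ha, hb⟩).elim
  have hmem : ∀ o (z : PrimeSpectrum T), z ∈ C o ↔ e o ∉ z.asIdeal := fun o z => by
    rw [heC o]; rfl
  have horth : OrthogonalIdempotents e := ⟨he, fun a b hab => by
    refine ((he a).mul (he b)).eq_zero_of_isNilpotent ?_
    rw [← mem_nilradical, nilradical_eq_sInf, Ideal.mem_sInf]
    intro I hI
    by_contra hcon
    exact hCd a b hab ⟨I, hI⟩ ((hmem a _).mpr fun h => hcon (I.mul_mem_right _ h))
      ((hmem b _).mpr fun h => hcon (I.mul_mem_left _ h))⟩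
  have hce : CompleteOrthogonalIdempotents e := ⟨horth, by
    by_contra hne
    have hnu : ¬ IsUnit (∑ i, e i) := fun h => hne (by
      obtain ⟨v, hv⟩ := h
      have h1 : IsIdempotentElem (v : T) := hv ▸ horth.isIdempotentElem_sum (s := Finset.univ)
      rw [← hv]
      exact v.isUnit.mul_right_cancel (h1.eq.trans (one_mul _).symm))
    obtain ⟨I, hI, hmemI⟩ := exists_max_ideal_of_mem_nonunits hnu
    obtain ⟨o, ho⟩ : ∃ o, (⟨I, hI.isPrime⟩ : PrimeSpectrum T) ∈ C o := by
      by_cases h : (⟨I, hI.isPrime⟩ : PrimeSpectrum T) ∈ C none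
      · exact ⟨none, h⟩
      · obtain ⟨i, hi⟩ := Set.mem_iUnion.mp (not_not.mp h)
        exact ⟨some i, hi⟩
    refine (hmem o _).mp ho ?_
    have : e o * ∑ i, e i = e o := horth.mul_sum_of_mem (Finset.mem_univ o)
    rw [← this]
    exact I.mul_mem_left _ hmemI⟩
  refine ⟨R', inferInstance, inferInstance, hetR, u', n, e, fun i => θ.inv (D'.w i), ?_, hce,
    fun i => ?_, fun i => ⟨?_, ?_⟩, fun z hz hzx => ?_, fun j => ?_⟩
  · show Spec.map φ u' = p
    rw [hφ, Scheme.Hom.comp_apply, hu', hu, hu₀]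
  · let A := T ⧸ Ideal.span {1 - e (some i)}
    let l : Spec (CommRingCat.of A) ⟶ Spec (CommRingCat.of T) :=
      Spec.map (CommRingCat.ofHom (Ideal.Quotient.mk (Ideal.span {1 - e (some i)})))
    haveI : IsLocalization.Away (e (some i)) A :=
      IsLocalization.away_of_isIdempotentElem (he _)
        (Ideal.mk_ker) Ideal.Quotient.mk_surjective
    haveI : IsOpenImmersion l := IsOpenImmersion.of_isLocalization (S := A) (e (some i))
    have hl : Set.range l = C (some i) := by
      rw [heC]; exact PrimeSpectrum.localization_away_comap_range A (e (some i))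
    have hr : Set.range (l ≫ θ.hom) = Set.range (D'.V i).ι := by
      rw [Scheme.Opens.range_ι, Scheme.Hom.comp_base, TopCat.coe_comp, Set.range_comp, hl]
      exact Set.image_preimage_eq _ θ.hom.surjective
    have e1 : Spec.map (CommRingCat.ofHom (algebraMap R' A)) =
        (IsOpenImmersion.isoOfRangeEq (l ≫ θ.hom) (D'.V i).ι hr).hom ≫
          (D'.V i).ι ≫ pullback.snd f (Spec.map φ) := by
      rw [IsOpenImmersion.isoOfRangeEq_hom_fac_assoc, Category.assoc, hθs, ← Spec.map_comp]
      rfl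
    haveI : IsClosedImmersion ((D'.V i).ι ≫ pullback.snd f (Spec.map φ)) := D'.prop i
    haveI : IsClosedImmersion (Spec.map (CommRingCat.ofHom (algebraMap R' A))) := by
      rw [e1]; infer_instance
    have h2 := (IsClosedImmersion.isAffine_surjective_of_isAffine
      (Spec.map (CommRingCat.ofHom (algebraMap R' A)))).2
    have h3 : CommRingCat.ofHom (algebraMap R' A) = (Scheme.ΓSpecIso _).inv ≫
        (Spec.map (CommRingCat.ofHom (algebraMap R' A))).appTop ≫ (Scheme.ΓSpecIso _).hom := by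
      rw [Scheme.ΓSpecIso_naturality, Iso.inv_hom_id_assoc]
    show Function.Surjective (CommRingCat.ofHom (algebraMap R' A)).hom
    rw [h3, CommRingCat.hom_comp, CommRingCat.hom_comp]
    exact (((ConcreteCategory.bijective_of_isIso (Scheme.ΓSpecIso _).hom).2).comp h2).comp
      (ConcreteCategory.bijective_of_isIso (Scheme.ΓSpecIso _).inv).2
  · refine (hmem (some i) _).mp ?_
    show θ.hom (θ.inv (D'.w i)) ∈ D'.V i
    rw [← Scheme.Hom.comp_apply, Iso.inv_hom_id]
    exact D'.mem i
  · rw [hs, ← Scheme.Hom.comp_apply θ.inv, Iso.inv_hom_id]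
    exact D'.snd_w i
  · rw [hs] at hz
    rw [hf] at hzx
    obtain ⟨i, hi⟩ := D'.cov _ hz hzx
    refine ⟨i, ?_⟩
    show z = θ.inv (D'.w i)
    rw [hi, ← Scheme.Hom.comp_apply, Iso.hom_inv_id]
    rfl
  · obtain ⟨w, hw1, hw2⟩ := Scheme.Pullback.exists_preimage_pullback (f := f) (g := Spec.map φ)
      (x j : Spec (CommRingCat.of S)) u' (by
        rw [hφ, Scheme.Hom.comp_apply, hu', hu, hu₀]
        exact hp j)
    obtain ⟨i, hi⟩ := D'.cov w hw2 ⟨j, hw1.symm⟩
    refine ⟨i, ?_⟩
    rw [hf, ← Scheme.Hom.comp_apply θ.inv, Iso.inv_hom_id]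
    show pullback.fst f (Spec.map φ) (D'.w i) = x j
    rw [hi, hw1]

/-- The prime of a split off quotient of the base. -/
theorem quotient_prime {R' T : Type u} [CommRing R'] [CommRing T] [Algebra R' T] {e : T}
    (he : IsIdempotentElem e) (Q : PrimeSpectrum T) (heQ : e ∉ Q.asIdeal) {p' : PrimeSpectrum R'}
    (hQ : PrimeSpectrum.comap (algebraMap R' T) Q = p')
    (hsurj : Function.Surjective (algebraMap R' (T ⧸ Ideal.span {1 - e}))) :
    (p'.asIdeal.map (algebraMap R' (T ⧸ Ideal.span {1 - e}))).IsPrime ∧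
      (p'.asIdeal.map (algebraMap R' (T ⧸ Ideal.span {1 - e}))).comap
        (algebraMap R' (T ⧸ Ideal.span {1 - e})) = p'.asIdeal ∧
      (p'.asIdeal.map (algebraMap R' (T ⧸ Ideal.span {1 - e}))).comap
        (Ideal.Quotient.mk (Ideal.span {1 - e})) = Q.asIdeal := by
  subst hQ
  have h1 : 1 - e ∈ Q.asIdeal := (Q.isPrime.mem_or_mem (x := e) (y := 1 - e)
    (by rw [mul_sub, mul_one, he.eq, sub_self]; exact Q.asIdeal.zero_mem)).resolve_left heQ
  have hle : RingHom.ker (Ideal.Quotient.mk (Ideal.span {1 - e})) ≤ Q.asIdeal := by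
    rw [Ideal.mk_ker, Ideal.span_le, Set.singleton_subset_iff]
    exact h1
  have hc : (Q.asIdeal.map (Ideal.Quotient.mk (Ideal.span {1 - e}))).comap
      (Ideal.Quotient.mk (Ideal.span {1 - e})) = Q.asIdeal := by
    rw [Ideal.comap_map_of_surjective _ Ideal.Quotient.mk_surjective, sup_eq_left]
    exact hle
  have hp : (PrimeSpectrum.comap (algebraMap R' T) Q).asIdeal =
      (Q.asIdeal.map (Ideal.Quotient.mk (Ideal.span {1 - e}))).comap
        (algebraMap R' (T ⧸ Ideal.span {1 - e})) := by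
    rw [IsScalarTower.algebraMap_eq R' T (T ⧸ Ideal.span {1 - e}), ← Ideal.comap_comap,
      Ideal.Quotient.algebraMap_eq, hc]
    rfl
  have hm : (PrimeSpectrum.comap (algebraMap R' T) Q).asIdeal.map
      (algebraMap R' (T ⧸ Ideal.span {1 - e})) =
      Q.asIdeal.map (Ideal.Quotient.mk (Ideal.span {1 - e})) := by
    rw [hp, Ideal.map_comap_of_surjective _ hsurj]
  exact ⟨hm ▸ Ideal.map_isPrime_of_surjective Ideal.Quotient.mk_surjective hle,
    by rw [hm]; exact hp.symm, by rw [hm]; exact hc⟩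

end Groth.L05.Chart
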