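import Groth.Agent.L05.Chart.EtaleSplitting

/-!
# Indexed étale local splittings and their restriction to open subsets of the base
-/

set_option autoImplicit false
set_option linter.style.haveILetI false
set_option backward.isDefEq.respectTransparency false
set_option backward.isDefEq.respectTransparency.types false

universe u

open CategoryTheory CategoryTheory.Limits AlgebraicGeometry TopologicalSpace
open Groth.L20.Weight (pt)

noncomputable section

namespace Groth.L05.Chart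

variable {X S : Scheme.{u}} {f : X ⟶ S}

/-- Opens with the property, one through each point over the given point and the given set. -/
structure Split (f : X ⟶ S) (P : MorphismProperty Scheme.{u}) (A : Set X) {U : Scheme.{u}} (g : U ⟶ S)
    (u : U) (n : ℕ) where
  w : Fin n → ↑(pullback f g)
  V : Fin n → (pullback f g).Opens
  prop : ∀ k, P ((V k).ι ≫ pullback.snd f g)
  mem : ∀ k, w k ∈ V k
  snd_w : ∀ k, pullback.snd f g (w k) = u
  fst_w : ∀ k, pullback.fst f g (w k) ∈ A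
  inj : Function.Injective w
  cov : ∀ z, pullback.snd f g z = u → pullback.fst f g z ∈ A → ∃ k, w k = z

variable {P : MorphismProperty Scheme.{u}} [P.IsStableUnderBaseChange]

theorem exists_split (P : MorphismProperty Scheme.{u}) [P.IsStableUnderBaseChange] (s : S) {ι : Type*}
    [Finite ι] (x : ι → X) (hs : ∀ i, f (x i) = s)
    (hW : ∀ i, ∃ W : X.Opens, x i ∈ W ∧ LocallyQuasiFinite (W.ι ≫ f))
    (hloc : ∀ {K : Type u} [Field K] [IsAlgClosed K] (σ : Spec (CommRingCat.of K) ⟶ S)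
      (ξ : Spec (CommRingCat.of K) ⟶ X), ξ ≫ f = σ → pt ξ ∈ Set.range x →
      ∃ (U : Scheme.{u}) (g : U ⟶ S) (a : Spec (CommRingCat.of K) ⟶ U),
        Etale g ∧ a ≫ g = σ ∧ Good f P g a ξ) :
    ∃ (U : Scheme.{u}) (g : U ⟶ S) (u : U) (n : ℕ),
      Etale g ∧ g u = s ∧ Nonempty (Split f P (Set.range x) g u n) := by
  obtain ⟨U, g, u, hg, hu, hfin, hcov⟩ := exists_splitting f P s x hs hW hloc
  haveI := hfin.to_subtype
  obtain ⟨n, ⟨e⟩⟩ := Finite.exists_equiv_fin
    {w : ↑(pullback f g) | pullback.snd f g w = u ∧ pullback.fst f g w ∈ Set.range x}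
  choose V hV hmem using fun k => hcov (e.symm k).1 (e.symm k).2.1 (e.symm k).2.2
  exact ⟨U, g, u, n, hg, hu, ⟨⟨fun k => (e.symm k).1, V, hV, hmem, fun k => (e.symm k).2.1,
    fun k => (e.symm k).2.2, fun a b h => e.symm.injective (Subtype.ext h),
    fun z h1 h2 => ⟨e ⟨z, h1, h2⟩, by simp⟩⟩⟩⟩

theorem exists_split_closedImmersion (s : S) {ι : Type*} [Finite ι] (x : ι → X)
    (hs : ∀ i, f (x i) = s)
    (hx : ∀ i, ∃ W : X.Opens, x i ∈ W ∧ LocallyOfFiniteType (W.ι ≫ f) ∧ FormallyUnramified (W.ι ≫ f)) :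
    ∃ (U : Scheme.{u}) (g : U ⟶ S) (u : U) (n : ℕ),
      Etale g ∧ g u = s ∧ Nonempty (Split f @IsClosedImmersion (Set.range x) g u n) := by
  refine exists_split @IsClosedImmersion s x hs (fun i => ?_) fun σ ξ hξ ⟨i, hi⟩ => ?_
  · obtain ⟨W, hW, _, _⟩ := hx i
    exact ⟨W, hW, Groth.L23.locallyQuasiFinite_of_unramified _⟩
  · obtain ⟨W, hW, _, _⟩ := hx i
    exact (exists_good σ ξ hξ W (hi ▸ hW)).1

theorem exists_split_isIso (s : S) {ι : Type*} [Finite ι] (x : ι → X) (hs : ∀ i, f (x i) = s)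
    (hx : ∀ i, ∃ W : X.Opens, x i ∈ W ∧ Etale (W.ι ≫ f)) :
    ∃ (U : Scheme.{u}) (g : U ⟶ S) (u : U) (n : ℕ),
      Etale g ∧ g u = s ∧ Nonempty (Split f (MorphismProperty.isomorphisms Scheme.{u}) (Set.range x) g u n) := by
  refine exists_split (MorphismProperty.isomorphisms Scheme.{u}) s x hs (fun i => ?_)
    fun σ ξ hξ ⟨i, hi⟩ => ?_
  · obtain ⟨W, hW, _⟩ := hx i
    exact ⟨W, hW, Groth.L23.locallyQuasiFinite_of_unramified _⟩
  · obtain ⟨W, hW, he⟩ := hx i
    haveI := he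
    exact (exists_good σ ξ hξ W (hi ▸ hW)).2 he

theorem Split.isClosedImmersion_of_iso {A : Set X} {U : Scheme.{u}} {g : U ⟶ S} {u : U} {n : ℕ}
    (D : Split f (MorphismProperty.isomorphisms Scheme.{u}) A g u n) :
    Nonempty (Split f @IsClosedImmersion A g u n) :=
  ⟨{ D with prop := fun k => haveI : IsIso ((D.V k).ι ≫ pullback.snd f g) := D.prop k; inferInstance }⟩

/-- Pulling a splitting back along an open immersion of bases. -/
theorem Split.pullbackOpen {A : Set X} {U U' : Scheme.{u}} {g : U ⟶ S} {u : U} {n : ℕ}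
    (D : Split f P A g u n) (h : U' ⟶ U) [IsOpenImmersion h] (u' : U') (hu : h u' = u) :
    ∃ (D' : Split f P A (h ≫ g) u' n) (m : pullback f (h ≫ g) ⟶ pullback f g),
      (∀ k, D'.V k = m ⁻¹ᵁ D.V k) ∧ (∀ z, pullback.snd f g (m z) ∈ Set.range h) ∧
        Function.Injective m ∧ (∀ z, pullback.fst f g (m z) = pullback.fst f (h ≫ g) z) ∧
        ∀ z, h (pullback.snd f (h ≫ g) z) = pullback.snd f g (m z) := by
  let m := pullback.map f (h ≫ g) f g (𝟙 X) h (𝟙 S) (by simp) (by simp)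
  have hm1 : m ≫ pullback.fst f g = pullback.fst f (h ≫ g) := by
    simp only [m, pullback.map, pullback.lift_fst, Category.comp_id]
  have hm2 : m ≫ pullback.snd f g = pullback.snd f (h ≫ g) ≫ h := by
    simp only [m, pullback.map, pullback.lift_snd]
  haveI : IsOpenImmersion m :=
    MorphismProperty.of_isPullback (isPullback_map f g h).flip (inferInstanceAs (IsOpenImmersion h))
  have hsq := isPullback_map f g h
  have h1 : ∀ z, pullback.fst f g (m z) = pullback.fst f (h ≫ g) z := fun z => by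
    rw [← Scheme.Hom.comp_apply, hm1]
  have h2 : ∀ z, h (pullback.snd f (h ≫ g) z) = pullback.snd f g (m z) := fun z => by
    rw [← Scheme.Hom.comp_apply m, hm2, Scheme.Hom.comp_apply]
  have hw : ∀ k, ∃ z, m z = D.w k := fun k => by
    obtain ⟨z, hz, -⟩ := Scheme.exists_preimage_of_isPullback hsq (D.w k) u' ((D.snd_w k).trans hu.symm)
    exact ⟨z, hz⟩
  choose w' hw' using hw
  have hinj : Function.Injective m := m.isOpenEmbedding.injective
  refine ⟨⟨w', fun k => m ⁻¹ᵁ D.V k, fun k => MorphismProperty.of_isPullback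
      ((isPullback_morphismRestrict m (D.V k)).paste_vert hsq) (D.prop k), fun k => ?_, fun k => ?_,
      fun k => ?_, fun a b h => D.inj (by rw [← hw', ← hw', h]), fun z hz hzA => ?_⟩,
    m, fun k => rfl, fun z => ?_, hinj, h1, h2⟩
  · show m (w' k) ∈ D.V k
    rw [hw']; exact D.mem k
  · exact h.isOpenEmbedding.injective (by rw [h2, hw', D.snd_w, hu])
  · rw [← h1, hw']; exact D.fst_w k
  · obtain ⟨k, hk⟩ := D.cov (m z) (by rw [← h2, hz, hu]) (by rw [h1]; exact hzA)
    exact ⟨k, hinj ((hw' k).trans hk)⟩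
  · rw [← h2]; exact ⟨_, rfl⟩

/-- Restricting a splitting to an open neighbourhood of the chosen point. -/
theorem Split.restrict {A : Set X} {U : Scheme.{u}} {g : U ⟶ S} {u : U} {n : ℕ} (D : Split f P A g u n)
    (O : U.Opens) (hu : u ∈ O) :
    ∃ (D' : Split f P A (O.ι ≫ g) (⟨u, hu⟩ : O) n)
      (m : pullback f (O.ι ≫ g) ⟶ pullback f g),
      (∀ k, D'.V k = m ⁻¹ᵁ D.V k) ∧ (∀ z, pullback.snd f g (m z) ∈ O) ∧
        Function.Injective m ∧ (∀ z, pullback.fst f g (m z) = pullback.fst f (O.ι ≫ g) z) ∧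
        ∀ z, (pullback.snd f (O.ι ≫ g) z).1 = pullback.snd f g (m z) := by
  obtain ⟨D', m, hV, hO, hinj, h1, h2⟩ := D.pullbackOpen O.ι (⟨u, hu⟩ : O) rfl
  exact ⟨D', m, hV, fun z => by simpa [Scheme.Opens.range_ι] using hO z, hinj, h1, h2⟩

/-- Over a separated morphism the members of a splitting are closed, and disjoint near the point. -/
theorem Split.exists_disjoint [IsSeparated f] {A : Set X} {U : Scheme.{u}} {g : U ⟶ S} {u : U} {n : ℕ}
    (D : Split f P A g u n) (hP : P ≤ @IsClosedImmersion) (hg : Etale g) :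
    ∃ (U' : Scheme.{u}) (g' : U' ⟶ S) (u' : U'), Etale g' ∧ g' u' = g u ∧
      ∃ D' : Split f P A g' u' n, (∀ k k', k ≠ k' → Disjoint (D'.V k) (D'.V k')) ∧
        ∀ k, IsClosed (D'.V k : Set ↑(pullback f g')) := by
  have hcl : ∀ k, IsClosed (D.V k : Set ↑(pullback f g)) := fun k => by
    haveI : IsClosedImmersion ((D.V k).ι ≫ pullback.snd f g) := hP _ (D.prop k)
    haveI : IsClosedImmersion (D.V k).ι := IsClosedImmersion.of_comp (D.V k).ι (pullback.snd f g)
    rw [← Scheme.Opens.range_ι]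
    exact (D.V k).ι.isClosedEmbedding.isClosed_range
  let C : Set U := ⋃ p : {p : Fin n × Fin n // p.1 ≠ p.2},
    ((D.V p.1.1).ι ≫ pullback.snd f g) '' ((D.V p.1.1).ι ⁻¹' (D.V p.1.2 : Set ↑(pullback f g)))
  have hC : IsClosed C := isClosed_iUnion_of_finite fun p => by
    haveI : IsClosedImmersion ((D.V p.1.1).ι ≫ pullback.snd f g) := hP _ (D.prop _)
    exact Scheme.Hom.isClosedMap _ _ ((hcl _).preimage (D.V p.1.1).ι.continuous)
  have huC : u ∈ (⟨Cᶜ, hC.isOpen_compl⟩ : U.Opens) := fun hmem => by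
    obtain ⟨⟨⟨a, b⟩, hab⟩, ⟨z, hz⟩, hzb, hzu⟩ := Set.mem_iUnion.mp hmem
    rw [Scheme.Hom.comp_apply] at hzu
    haveI := hP _ (D.prop a)
    haveI := hP _ (D.prop b)
    have ha : z = D.w a := eq_of_mem g (D.V a) hz (D.mem a) (hzu.trans (D.snd_w a).symm)
    have hb : z = D.w b := eq_of_mem g (D.V b) hzb (D.mem b) (hzu.trans (D.snd_w b).symm)
    exact hab (D.inj (ha.symm.trans hb))
  let O : U.Opens := ⟨Cᶜ, hC.isOpen_compl⟩
  obtain ⟨D', m, hV, hmO, hinj, -, -⟩ := D.restrict O huC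
  refine ⟨O, O.ι ≫ g, ⟨u, huC⟩, inferInstance, rfl, D', fun a b hab => ?_, fun k => ?_⟩
  · rw [hV, hV, disjoint_iff_inf_le]
    rintro z ⟨ha, hb⟩
    exact (hmO z (Set.mem_iUnion.mpr ⟨⟨(a, b), hab⟩, ⟨m z, ha⟩, hb, rfl⟩)).elim
  · rw [hV]
    exact (hcl k).preimage m.continuous

end Groth.L05.Chart
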